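import Cfsg.Agent.Lib.Helper11.Fi24e1.D0
import Cfsg.Agent.Lib.Helper11.Fi24e1.D1
import Cfsg.Agent.Lib.Helper11.Fi24e1.D2
import Cfsg.Agent.Lib.Helper11.Words

set_option autoImplicit false
set_option maxRecDepth 100000

namespace Cfsg.Agent.Lib.Helper11.Fi24e1

noncomputable def fc1_0 (i : ℕ) : ℕ := (Bool.rec (Bool.rec (Bool.rec (Bool.rec (fc0_0 i) (fc0_1 i) (Nat.ble 16 i)) (Bool.rec (fc0_2 i) (fc0_3 i) (Nat.ble 48 i)) (Nat.ble 32 i)) (Bool.rec (Bool.rec (fc0_4 i) (fc0_5 i) (Nat.ble 80 i)) (Bool.rec (fc0_6 i) (fc0_7 i) (Nat.ble 112 i)) (Nat.ble 96 i)) (Nat.ble 64 i)) (Bool.rec (Bool.rec (Bool.rec (fc0_8 i) (fc0_9 i) (Nat.ble 144 i)) (Bool.rec (fc0_10 i) (fc0_11 i) (Nat.ble 176 i)) (Nat.ble 160 i)) (Bool.rec (Bool.rec (fc0_12 i)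 (fc0_13 i) (Nat.ble 208 i)) (Bool.rec (fc0_14 i) (fc0_15 i) (Nat.ble 240 i)) (Nat.ble 224 i)) (Nat.ble 192 i)) (Nat.ble 128 i))
noncomputable def fc1_1 (i : ℕ) : ℕ := (Bool.rec (Bool.rec (Bool.rec (Bool.rec (fc0_16 i) (fc0_17 i) (Nat.ble 272 i)) (Bool.rec (fc0_18 i) (fc0_19 i) (Nat.ble 304 i)) (Nat.ble 288 i)) (Bool.rec (Bool.rec (fc0_20 i) (fc0_21 i) (Nat.ble 336 i)) (Bool.rec (fc0_22 i) (fc0_23 i) (Nat.ble 368 i)) (Nat.ble 352 i)) (Nat.ble 320 i)) (Bool.rec (Bool.rec (Bool.rec (fc0_24 i) (fc0_25 i) (Nat.ble 400 i)) (Bool.rec (fc0_26 i) (fc0_27 i) (Nat.ble 432 i)) (Nat.ble 416 i)) (Bool.rec (Bool.rec (fc0_28 i) (fc0_29 i) (Nat.ble 464 i)) (Bool.rec (fc0_30 i) (fc0_31 i) (Nat.ble 496 i)) (Nat.ble 480 i)) (Nat.ble 448 i)) (Nat.ble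 384 i))
noncomputable def fc1_2 (i : ℕ) : ℕ := (Bool.rec (Bool.rec (Bool.rec (fc0_32 i) (Bool.rec (fc0_33 i) (fc0_34 i) (Nat.ble 544 i)) (Nat.ble 528 i)) (Bool.rec (fc0_35 i) (Bool.rec (fc0_36 i) (fc0_37 i) (Nat.ble 592 i)) (Nat.ble 576 i)) (Nat.ble 560 i)) (Bool.rec (Bool.rec (fc0_38 i) (Bool.rec (fc0_39 i) (fc0_40 i) (Nat.ble 640 i)) (Nat.ble 624 i)) (Bool.rec (fc0_41 i) (Bool.rec (fc0_42 i) (fc0_43 i) (Nat.ble 688 i)) (Nat.ble 672 i)) (Nat.ble 656 i)) (Nat.ble 608 i))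
noncomputable def fc2_0 (i : ℕ) : ℕ := (Bool.rec (fc1_0 i) (Bool.rec (fc1_1 i) (fc1_2 i) (Nat.ble 512 i)) (Nat.ble 256 i))
noncomputable def fc (i : ℕ) : ℕ := fc2_0 i
noncomputable def sc1_0 (i : ℕ) : ℕ := (Bool.rec (Bool.rec (Bool.rec (Bool.rec (sc0_0 i) (sc0_1 i) (Nat.ble 16 i)) (Bool.rec (sc0_2 i) (sc0_3 i) (Nat.ble 48 i)) (Nat.ble 32 i)) (Bool.rec (Bool.rec (sc0_4 i) (sc0_5 i) (Nat.ble 80 i)) (Bool.rec (sc0_6 i) (sc0_7 i) (Nat.ble 112 i)) (Nat.ble 96 i)) (Nat.ble 64 i)) (Bool.rec (Bool.rec (Bool.rec (sc0_8 i) (sc0_9 i) (Nat.ble 144 i)) (Bool.rec (sc0_10 i) (sc0_11 i) (Nat.ble 176 i)) (Nat.ble 160 i)) (Bool.rec (Bool.rec (sc0_12 i) (sc0_13 i) (Nat.ble 208 i)) (Bool.rec (sc0_14 i) (sc0_15 i) (Nat.ble 240 i)) (Nat.ble 224 i))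 (Nat.ble 192 i)) (Nat.ble 128 i))
noncomputable def sc1_1 (i : ℕ) : ℕ := (Bool.rec (Bool.rec (Bool.rec (Bool.rec (sc0_16 i) (sc0_17 i) (Nat.ble 272 i)) (Bool.rec (sc0_18 i) (sc0_19 i) (Nat.ble 304 i)) (Nat.ble 288 i)) (Bool.rec (Bool.rec (sc0_20 i) (sc0_21 i) (Nat.ble 336 i)) (Bool.rec (sc0_22 i) (sc0_23 i) (Nat.ble 368 i)) (Nat.ble 352 i)) (Nat.ble 320 i)) (Bool.rec (Bool.rec (Bool.rec (sc0_24 i) (sc0_25 i) (Nat.ble 400 i)) (Bool.rec (sc0_26 i) (sc0_27 i) (Nat.ble 432 i)) (Nat.ble 416 i)) (Bool.rec (Bool.rec (sc0_28 i) (sc0_29 i) (Nat.ble 464 i)) (Bool.rec (sc0_30 i) (sc0_31 i) (Nat.ble 496 i)) (Nat.ble 480 i)) (Nat.ble 448 i)) (Nat.ble 384 i))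
noncomputable def sc1_2 (i : ℕ) : ℕ := (Bool.rec (Bool.rec (Bool.rec (sc0_32 i) (Bool.rec (sc0_33 i) (sc0_34 i) (Nat.ble 544 i)) (Nat.ble 528 i)) (Bool.rec (sc0_35 i) (Bool.rec (sc0_36 i) (sc0_37 i) (Nat.ble 592 i)) (Nat.ble 576 i)) (Nat.ble 560 i)) (Bool.rec (Bool.rec (sc0_38 i) (Bool.rec (sc0_39 i) (sc0_40 i) (Nat.ble 640 i)) (Nat.ble 624 i)) (Bool.rec (sc0_41 i) (Bool.rec (sc0_42 i) (sc0_43 i) (Nat.ble 688 i)) (Nat.ble 672 i)) (Nat.ble 656 i)) (Nat.ble 608 i))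
noncomputable def sc2_0 (i : ℕ) : ℕ := (Bool.rec (sc1_0 i) (Bool.rec (sc1_1 i) (sc1_2 i) (Nat.ble 512 i)) (Nat.ble 256 i))
noncomputable def sc (i : ℕ) : ℕ := sc2_0 i
noncomputable def nc1_0 (i : ℕ) : ℕ := (Bool.rec (nc0_0 i) (nc0_1 i) (Nat.ble 16 i))
noncomputable def nc (i : ℕ) : ℕ := nc1_0 i
noncomputable def cc1_0 (i : ℕ) : ℕ := (Bool.rec (Bool.rec (Bool.rec (Bool.rec (cc0_0 i) (cc0_1 i) (Nat.ble 16 i)) (Bool.rec (cc0_2 i) (cc0_3 i) (Nat.ble 48 i)) (Nat.ble 32 i)) (Bool.rec (Bool.rec (cc0_4 i) (cc0_5 i) (Nat.ble 80 i)) (Bool.rec (cc0_6 i) (cc0_7 i) (Nat.ble 112 i)) (Nat.ble 96 i)) (Nat.ble 64 i)) (Bool.rec (Bool.rec (Bool.rec (cc0_8 i) (cc0_9 i) (Nat.ble 144 i)) (Bool.rec (cc0_10 i) (cc0_11 i) (Nat.ble 176 i)) (Nat.ble 160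 i)) (Bool.rec (Bool.rec (cc0_12 i) (cc0_13 i) (Nat.ble 208 i)) (Bool.rec (cc0_14 i) (cc0_15 i) (Nat.ble 240 i)) (Nat.ble 224 i)) (Nat.ble 192 i)) (Nat.ble 128 i))
noncomputable def cc1_1 (i : ℕ) : ℕ := (Bool.rec (Bool.rec (Bool.rec (cc0_16 i) (Bool.rec (cc0_17 i) (cc0_18 i) (Nat.ble 288 i)) (Nat.ble 272 i)) (Bool.rec (cc0_19 i) (Bool.rec (cc0_20 i) (cc0_21 i) (Nat.ble 336 i)) (Nat.ble 320 i)) (Nat.ble 304 i)) (Bool.rec (Bool.rec (cc0_22 i) (Bool.rec (cc0_23 i) (cc0_24 i) (Nat.ble 384 i)) (Nat.ble 368 i)) (Bool.rec (cc0_25 i) (Bool.rec (cc0_26 i) (cc0_27 i) (Nat.ble 432 i)) (Nat.ble 416 i)) (Nat.ble 400 i)) (Nat.ble 352 i))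
noncomputable def cc2_0 (i : ℕ) : ℕ := (Bool.rec (cc1_0 i) (cc1_1 i) (Nat.ble 256 i))
noncomputable def cc (i : ℕ) : ℕ := cc2_0 i

noncomputable def INV : ℕ := 11584701642934304
def isH (l : ℕ) : Bool := decide (l ∈ [3, 4, 5, 6, 7, 8, 9, 10, 1])
def gens : List ℕ := [1, 2, 3, 4, 5, 6, 7, 8, 9, 10]
def rt : RT := (.node 23 (.node 10 (.node 5 (.node 3 (.node 2 (.node 1 (.leaf 19 0 [1, 9, 1, 9]) (.leaf 20 0 [1, 10, 1, 10])) (.leaf 15 0 [1, 5, 1, 5])) (.node 4 (.leaf 16 0 [1, 6, 1, 6]) (.leaf 17 0 [1, 7, 1, 7]))) (.node 8 (.node 7 (.node 6 (.leaf 69 0 [6, 9, 6, 9]) (.leaf 49 0 [4, 9, 4, 9])) (.leaf 79 0 [7, 9, 7, 9])) (.node 9 (.leaf 89 0 [8, 9, 8, 9]) (.leaf 39 0 [3, 9, 3, 9])))) (.node 16 (.node 13 (.node 12 (.node 11 (.leaf 18 0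 [1, 8, 1, 8]) (.leaf 60 0 [5, 10, 5, 10])) (.leaf 29 0 [2, 9, 2, 9])) (.node 15 (.node 14 (.leaf 70 0 [6, 10, 6, 10]) (.leaf 40 0 [3, 10, 3, 10])) (.leaf 50 0 [4, 10, 4, 10]))) (.node 20 (.node 18 (.node 17 (.leaf 80 0 [7, 10, 7, 10]) (.leaf 90 0 [8, 10, 8, 10])) (.node 19 (.leaf 30 0 [2, 10, 2, 10]) (.leaf 100 1 [10, 9, 10, 9, 10, 9]))) (.node 22 (.node 21 (.leaf 25 0 [2, 5, 2, 5]) (.leaf 35 0 [3, 5, 3, 5])) (.leaf 58 1 [8, 5, 8, 5]))))) (.node 43 (.node 33 (.node 28 (.node 26 (.node 25 (.node 24 (.leaf 59 1 [9, 5, 9, 5, 9, 5]) (.leaf 26 0 [2, 6, 2, 6])) (.leaf 46 0 [4, 6, 4, 6])) (.node 27 (.leaf 36 0 [3, 6, 3, 6]) (.leaf 69 1 [9, 6, 9, 6]))) (.node 31 (.node 30 (.node 29 (.leaf 57 0 [5, 7, 5, 7]) (.leaf 47 0 [4, 7, 4, 7])) (.leaf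 37 0 [3, 7, 3, 7])) (.node 32 (.leaf 68 1 [8, 6, 8, 6]) (.leaf 27 0 [2, 7, 2, 7])))) (.node 38 (.node 36 (.node 35 (.node 34 (.leaf 57 1 [7, 5, 7, 5]) (.leaf 14 0 [1, 4, 1, 4])) (.leaf 68 0 [6, 8, 6, 8])) (.node 37 (.leaf 60 1 [10, 5, 10, 5]) (.leaf 58 0 [5, 8, 5, 8]))) (.node 41 (.node 40 (.node 39 (.leaf 48 0 [4, 8, 4, 8]) (.leaf 38 0 [3, 8, 3, 8])) (.leaf 28 0 [2, 8, 2, 8])) (.node 42 (.leaf 56 0 [5, 6, 5, 6, 5, 6]) (.leaf 79 1 [9, 7, 9, 7]))))) (.node 57 (.node 49 (.node 46 (.node 45 (.node 44 (.leaf 70 1 [10, 6, 10, 6]) (.leaf 78 0 [7, 8, 7, 8, 7, 8])) (.leaf 67 0 [6, 7, 6, 7, 6, 7])) (.node 48 (.node 47 (.leaf 80 1 [10, 7, 10, 7]) (.leaf 90 1 [10, 8, 10, 8])) (.leaf 89 1 [9, 8, 9, 8]))) (.node 53 (.node 51 (.node 50 (.leaf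 59 0 [5, 9, 5, 9, 5, 9]) (.leaf 56 1 [6, 5, 6, 5, 6, 5])) (.node 52 (.leaf 45 1 [5, 4, 5, 4, 5, 4]) (.leaf 49 1 [9, 4, 9, 4]))) (.node 55 (.node 54 (.leaf 24 0 [2, 4, 2, 4]) (.leaf 45 0 [4, 5, 4, 5, 4, 5])) (.node 56 (.leaf 10 0 [10, 10]) (.leaf 48 1 [8, 4, 8, 4]))))) (.node 68 (.node 62 (.node 60 (.node 59 (.node 58 (.leaf 9 0 [9, 9]) (.leaf 100 0 [9, 10, 9, 10, 9, 10])) (.leaf 13 0 [1, 3, 1, 3])) (.node 61 (.leaf 67 1 [7, 6, 7, 6, 7, 6]) (.leaf 47 1 [7, 4, 7, 4]))) (.node 65 (.node 64 (.node 63 (.leaf 50 1 [10, 4, 10, 4]) (.leaf 8 0 [8, 8])) (.leaf 5 0 [5, 5])) (.node 67 (.node 66 (.leaf 6 0 [6, 6]) (.leaf 7 0 [7, 7])) (.leaf 46 1 [6, 4, 6, 4])))) (.node 77 (.node 73 (.node 71 (.node 70 (.node 69 (.leaf 35 1 [5, 3, 5, 3]) (.leaf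 39 1 [9, 3, 9, 3])) (.leaf 34 1 [4, 3, 4, 3, 4, 3])) (.node 72 (.leaf 38 1 [8, 3, 8, 3]) (.leaf 12 0 [1, 2, 1, 2]))) (.node 75 (.node 74 (.leaf 4 0 [4, 4]) (.leaf 37 1 [7, 3, 7, 3])) (.node 76 (.leaf 34 0 [3, 4, 3, 4, 3, 4]) (.leaf 78 1 [8, 7, 8, 7, 8, 7])))) (.node 83 (.node 80 (.node 79 (.node 78 (.leaf 40 1 [10, 3, 10, 3]) (.leaf 36 1 [6, 3, 6, 3])) (.leaf 27 1 [7, 2, 7, 2])) (.node 82 (.node 81 (.leaf 29 1 [9, 2, 9, 2]) (.leaf 25 1 [5, 2, 5, 2])) (.leaf 24 1 [4, 2, 4, 2]))) (.node 87 (.node 85 (.node 84 (.leaf 28 1 [8, 2, 8, 2]) (.leaf 3 0 [3, 3])) (.node 86 (.leaf 23 1 [3, 2, 3, 2, 3, 2]) (.leaf 2 0 [2, 2]))) (.node 90 (.node 89 (.node 88 (.leaf 30 1 [10, 2, 10, 2]) (.leaf 26 1 [6, 2, 6, 2])) (.leaf 23 0 [2, 3, 2, 3, 2, 3]))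 (.node 91 (.leaf 0 0 []) (.node 95 (.node 93 (.node 92 (.leaf 111 2 [7, 6, 5, 4, 3, 2, 9, 7, 6, 5, 4, 3, 2, 9, 7, 6, 5, 4, 3, 2, 9, 7, 6, 5, 4, 3, 2, 9, 7, 6, 5, 4, 3, 2, 9, 7, 6, 5, 4, 3, 2, 9, 7, 6, 5, 4, 3, 2, 9, 7, 6, 5, 4, 3, 2, 9, 7, 6, 5, 4, 3, 2, 1, 9]) (.leaf 112 5 [7, 5, 9, 10, 5, 4, 3, 5, 6, 7, 5, 9, 10, 5, 4, 3, 5, 6, 7, 5, 9, 10, 5, 4, 3, 5, 6, 7, 5, 9, 10, 5, 4, 3, 5, 6, 7, 5, 9, 10, 5, 4, 3, 5, 6, 7, 5, 9, 10, 5, 4, 3, 5, 6, 7, 5, 9, 10, 5, 4, 3, 5, 6, 7, 5, 9, 10, 5, 4, 3, 5, 6, 7, 5, 9, 10, 5, 4, 3, 5, 6, 7, 5, 9, 10, 5, 4, 3, 5, 6])) (.node 94 (.leaf 111 3 [6, 5, 4, 3, 2, 9, 7, 6, 5, 4, 3, 2, 9, 7, 6, 5, 4, 3, 2, 9, 7, 6, 5, 4, 3, 2, 9, 7, 6, 5, 4, 3, 2, 9, 7, 6, 5, 4, 3, 2, 9, 7, 6, 5, 4, 3, 2, 9, 7, 6, 5, 4,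 3, 2, 9, 7, 6, 5, 4, 3, 2, 1, 9, 7]) (.leaf 111 1 [9, 7, 6, 5, 4, 3, 2, 9, 7, 6, 5, 4, 3, 2, 9, 7, 6, 5, 4, 3, 2, 9, 7, 6, 5, 4, 3, 2, 9, 7, 6, 5, 4, 3, 2, 9, 7, 6, 5, 4, 3, 2, 9, 7, 6, 5, 4, 3, 2, 9, 7, 6, 5, 4, 3, 2, 9, 7, 6, 5, 4, 3, 2, 1]))) (.node 99 (.node 97 (.node 96 (.leaf 111 4 [5, 4, 3, 2, 9, 7, 6, 5, 4, 3, 2, 9, 7, 6, 5, 4, 3, 2, 9, 7, 6, 5, 4, 3, 2, 9, 7, 6, 5, 4, 3, 2, 9, 7, 6, 5, 4, 3, 2, 9, 7, 6, 5, 4, 3, 2, 9, 7, 6, 5, 4, 3, 2, 9, 7, 6, 5, 4, 3, 2, 1, 9, 7, 6]) (.leaf 112 2 [3, 5, 6, 7, 5, 9, 10, 5, 4, 3, 5, 6, 7, 5, 9, 10, 5, 4, 3, 5, 6, 7, 5, 9, 10, 5, 4, 3, 5, 6, 7, 5, 9, 10, 5, 4, 3, 5, 6, 7, 5, 9, 10, 5, 4, 3, 5, 6, 7, 5, 9, 10, 5, 4, 3, 5, 6, 7, 5, 9, 10, 5, 4, 3, 5, 6, 7, 5, 9, 10, 5, 4, 3, 5, 6, 7, 5, 9,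 10, 5, 4, 3, 5, 6, 7, 5, 9, 10, 5, 4])) (.node 98 (.leaf 112 1 [4, 3, 5, 6, 7, 5, 9, 10, 5, 4, 3, 5, 6, 7, 5, 9, 10, 5, 4, 3, 5, 6, 7, 5, 9, 10, 5, 4, 3, 5, 6, 7, 5, 9, 10, 5, 4, 3, 5, 6, 7, 5, 9, 10, 5, 4, 3, 5, 6, 7, 5, 9, 10, 5, 4, 3, 5, 6, 7, 5, 9, 10, 5, 4, 3, 5, 6, 7, 5, 9, 10, 5, 4, 3, 5, 6, 7, 5, 9, 10, 5, 4, 3, 5, 6, 7, 5, 9, 10, 5]) (.leaf 112 4 [6, 7, 5, 9, 10, 5, 4, 3, 5, 6, 7, 5, 9, 10, 5, 4, 3, 5, 6, 7, 5, 9, 10, 5, 4, 3, 5, 6, 7, 5, 9, 10, 5, 4, 3, 5, 6, 7, 5, 9, 10, 5, 4, 3, 5, 6, 7, 5, 9, 10, 5, 4, 3, 5, 6, 7, 5, 9, 10, 5, 4, 3, 5, 6, 7, 5, 9, 10, 5, 4, 3, 5, 6, 7, 5, 9, 10, 5, 4, 3, 5, 6, 7, 5, 9, 10, 5, 4, 3, 5]))) (.node 101 (.node 100 (.leaf 112 3 [5, 6, 7, 5, 9, 10, 5, 4, 3, 5, 6, 7, 5, 9, 10, 5, 4, 3, 5,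 6, 7, 5, 9, 10, 5, 4, 3, 5, 6, 7, 5, 9, 10, 5, 4, 3, 5, 6, 7, 5, 9, 10, 5, 4, 3, 5, 6, 7, 5, 9, 10, 5, 4, 3, 5, 6, 7, 5, 9, 10, 5, 4, 3, 5, 6, 7, 5, 9, 10, 5, 4, 3, 5, 6, 7, 5, 9, 10, 5, 4, 3, 5, 6, 7, 5, 9, 10, 5, 4, 3]) (.leaf 111 5 [4, 3, 2, 9, 7, 6, 5, 4, 3, 2, 9, 7, 6, 5, 4, 3, 2, 9, 7, 6, 5, 4, 3, 2, 9, 7, 6, 5, 4, 3, 2, 9, 7, 6, 5, 4, 3, 2, 9, 7, 6, 5, 4, 3, 2, 9, 7, 6, 5, 4, 3, 2, 9, 7, 6, 5, 4, 3, 2, 1, 9, 7, 6, 5])) (.node 103 (.node 102 (.leaf 111 63 [2, 1, 9, 7, 6, 5, 4, 3, 2, 9, 7, 6, 5, 4, 3, 2, 9, 7, 6, 5, 4, 3, 2, 9, 7, 6, 5, 4, 3, 2, 9, 7, 6, 5, 4, 3, 2, 9, 7, 6, 5, 4, 3, 2, 9, 7, 6, 5, 4, 3, 2, 9, 7, 6, 5, 4, 3, 2, 9, 7, 6, 5, 4, 3]) (.leaf 111 60 [5, 4, 3, 2, 1, 9, 7, 6, 5, 4, 3, 2, 9, 7, 6, 5, 4, 3, 2, 9, 7,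 6, 5, 4, 3, 2, 9, 7, 6, 5, 4, 3, 2, 9, 7, 6, 5, 4, 3, 2, 9, 7, 6, 5, 4, 3, 2, 9, 7, 6, 5, 4, 3, 2, 9, 7, 6, 5, 4, 3, 2, 9, 7, 6])) (.leaf 111 7 [2, 9, 7, 6, 5, 4, 3, 2, 9, 7, 6, 5, 4, 3, 2, 9, 7, 6, 5, 4, 3, 2, 9, 7, 6, 5, 4, 3, 2, 9, 7, 6, 5, 4, 3, 2, 9, 7, 6, 5, 4, 3, 2, 9, 7, 6, 5, 4, 3, 2, 9, 7, 6, 5, 4, 3, 2, 1, 9, 7, 6, 5, 4, 3]))))))))))))))


end Cfsg.Agent.Lib.Helper11.Fi24e1
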